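import Groth.Agent.SquareLib.Coord
import Groth.Agent.CubeLib.Clopen
import Groth.Agent.CubeConsLib.Hom
import Groth.Agent.CDivCoreLib.Normal

/-!
An invertible module on a normal integral scheme trivial near the codimension one points is trivial.
-/

set_option autoImplicit false
set_option linter.style.haveILetI false
set_option maxHeartbeats 1000000

noncomputable section

universe u

open CategoryTheory CategoryTheory.Limits AlgebraicGeometry TopologicalSpace
open AmpleLib (res GenAt GenOn)
open CDivCoreLib (mem_of_open Reg)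
open SquareLib

namespace HartogsPic

variable {X : Scheme.{u}} [IsIntegral X] [IsLocallyNoetherian X]

theorem trivial_of_restrict (hX : Pi1.IsNormalScheme X) {U : X.Opens}
    (hη : genericPoint X ∈ U) (hU : ∀ y : X, Order.coheight y = 1 → y ∈ U) {L : X.Modules} (hL : PicF.IsInvertible L)
    (h : Nonempty ((Scheme.Modules.pullback U.ι).obj L ≅ Coh.structureModule U.toScheme)) :
    Nonempty (L ≅ Coh.structureModule X) := by
  obtain ⟨φ⟩ := h
  obtain ⟨γ, hγ⟩ := CubeLib.exists_genOn_of_restrict
    ⟨(Scheme.Modules.restrictFunctorIsoPullback U.ι).app L ≪≫ φ⟩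
  let e : L.presheaf.stalk (genericPoint X) := L.presheaf.germ U _ hη γ
  have he : Function.Bijective fun c : X.functionField => c • e := hγ.genAt hη
  have hgenU : ∀ y ∈ U, IsGen L e y 1 := fun y hy =>
    ⟨U, hy, γ, hγ.genAt hy, (one_smul X.functionField _).symm⟩
  have hall : ∀ x ∈ (⊤ : X.Opens), IsGen L e x 1 := by
    intro x _
    obtain ⟨f, hf⟩ := exists_isGen hL he x
    have key : ∀ y, y ⤳ x → Order.coheight y = 1 → Reg f y ∧ Reg f⁻¹ y := by
      intro y hy hc
      obtain ⟨u, hu, hu'⟩ := (hgenU y (hU y hc)).unique he (hf.of_specializes hL hy)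
      rw [mul_one] at hu'
      obtain ⟨v, rfl⟩ := hu
      exact ⟨⟨_, hu'.symm⟩, ⟨(v⁻¹ : (X.presheaf.stalk y)ˣ), by
        rw [hu']
        exact (Units.val_inv_eq_inv_val (Units.map (algebraMap (X.presheaf.stalk y) X.functionField).toMonoidHom v))⟩⟩
    obtain ⟨a, ha⟩ := CDivCoreLib.reg_of_coheight_one hX (fun y hy hc => (key y hy hc).1)
    obtain ⟨b, hb⟩ := CDivCoreLib.reg_of_coheight_one hX (fun y hy hc => (key y hy hc).2)
    have hf0 := hf.ne_zero hL
    have hab : a * b = 1 := IsFractionRing.injective (X.presheaf.stalk x) X.functionField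
      (by rw [map_mul, ha, hb, mul_inv_cancel₀ hf0, map_one])
    have h1 := hf.unit_mul (IsUnit.of_mul_eq_one_right a hab)
    rwa [hb, inv_mul_cancel₀ hf0] at h1
  obtain ⟨σ, hσ, -⟩ := exists_sec_of_isGen hL (mem_of_open (show genericPoint X ∈ (⊤ : X.Opens) from trivial)) hall
  haveI := AmpleLib.isIso_unitHom σ hσ
  exact ⟨(asIso (QCohLib.unitHom L σ)).symm⟩

end HartogsPic

end
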